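import Cfsg.Agent.Lib.InvChar.CosetCert

/-! Coset enumeration certificate J3Y14 for a presented sporadic group. -/

set_option autoImplicit false
set_option maxRecDepth 100000

namespace CfsgLib.InvChar.Coset.J3Y14

/-- facts -/
noncomputable def facts : Tr := (.leaf 0xbf000050000af0000c00009f0000d00008f0000e00000300005000014000040000e80000d0000d70000c0000c6000050000b60000a0000a700009000098000080000870000700007600006000068000050000570000400004600003000033000020000260000100001700000)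
/-- justifications -/
noncomputable def just : Tr := (.leaf 0xb000120000a0001800c00000030000440002400070030000000d00010000080002000c00000034000300002c0003c0000000004000080000c0001000014000180001c0436004008000040000e000000049c0040080000c00008000050022001002)
/-- relators -/
def rels : List (List ℕ) := [[0, 0], [1, 1], [2, 2], [3, 3], [4, 4], [5, 5], [6, 6], [7, 7], [8, 8], [9, 9], [5, 6, 5, 6, 5, 6], [5, 7, 5, 7, 5, 7, 5, 7, 5, 7], [6, 7, 6, 7, 6, 7], [5, 6, 7, 5, 6, 7, 5, 6, 7], [5, 6, 5, 7, 5, 6, 5, 7, 5, 6, 5, 7, 5, 6, 5, 7, 5, 6, 5, 7], [0, 1, 0, 1, 0, 4, 0, 4], [0, 2, 0, 2, 0, 4, 0, 4], [0, 3, 0, 3, 0, 4, 0, 4], [0, 4, 0, 4, 0, 4, 0, 4], [1, 2, 1, 2, 0, 4, 0, 4], [1, 3, 1, 3, 0, 4, 0, 4], [1, 4, 1, 4, 0, 4, 0, 4], [2, 3, 2, 3, 0, 4, 0, 4], [2, 4, 2, 4, 0, 4, 0, 4], [3, 4, 3, 4, 0, 4, 0, 4],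 [0, 1, 2, 3, 4], [5, 0, 5, 1], [5, 1, 5, 0], [5, 2, 5, 3], [5, 3, 5, 2], [5, 4, 5, 4], [6, 0, 6, 1], [6, 1, 6, 0], [6, 2, 6, 2], [6, 3, 6, 4], [6, 4, 6, 3], [7, 0, 7, 2], [7, 1, 7, 1], [7, 2, 7, 0], [7, 3, 7, 4], [7, 4, 7, 3], [4, 0, 4, 0, 4, 0, 4, 0], [4, 0, 4, 0, 1, 0, 4, 0, 4, 1], [4, 0, 4, 0, 2, 0, 4, 0, 4, 2], [4, 0, 4, 0, 3, 0, 4, 0, 4, 3], [4, 0, 4, 0, 5, 0, 4, 0, 4, 5], [4, 0, 4, 0, 6, 0, 4, 0, 4, 6], [4, 0, 4, 0, 7, 0, 4, 0, 4, 7], [3, 6, 7, 8, 3, 6, 7, 8, 3, 6, 7, 8], [9, 3, 6, 7, 8, 9, 8, 7, 6, 3], [9, 3, 2, 5, 9, 3, 2, 5, 9, 3, 2, 5], [9, 7, 6, 3, 6, 7, 8, 9, 7, 6, 3, 6, 7, 8], [9, 3, 2, 5, 7, 6, 3, 6, 7, 8, 9, 3, 2, 5, 7, 6, 3, 6, 7, 8, 9, 3, 2, 5, 7, 6, 3, 6, 7, 8, 9, 3, 2, 5, 7, 6, 3, 6, 7, 8, 9, 3, 2, 5, 7, 6, 3, 6, 7, 8], [6, 7, 8, 3, 2, 5, 8, 7, 6, 3, 5, 2], [3, 6, 7, 8, 7,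 6, 8, 7, 6, 3, 6, 7], [3, 6, 7, 8, 0, 1, 0, 1, 8, 7, 6, 3, 4], [9, 0, 1, 0, 1, 9, 5], [3, 6, 7, 8, 4, 8, 7, 6, 3, 0, 4, 0], [9, 4, 9, 7, 5, 6, 5, 7], [3, 6, 7, 8, 5, 8, 7, 6, 3, 7, 5, 6, 5, 7], [9, 5, 9, 1, 0, 1, 0], [3, 6, 7, 8, 6, 7, 5, 7, 6, 8, 7, 6, 3, 5], [9, 6, 7, 5, 7, 6, 9, 0, 4, 0], [6, 7, 8, 6, 7, 8, 6, 7]]
/-- subgroup words -/
def subs : List (List ℕ) := []
/-- the letters, as letters of the whole group -/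
def emb : List ℕ := [0, 1, 2, 3, 4, 5, 6, 7, 8, 9]
/-- certificate -/
noncomputable def cert : Cert := ⟨10, 20, 14, facts, just, rels, subs⟩

end CfsgLib.InvChar.Coset.J3Y14
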